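import Groth.Agent.TF7.Ascent.TorsionFree
import Groth.Agent.TF7.Completion.GenFibre
import Groth.Agent.CycLim28.Fibre

/-!
# Components under extension of the base field
-/

set_option autoImplicit false
set_option linter.style.haveILetI false
set_option backward.isDefEq.respectTransparency.types false
set_option backward.isDefEq.respectTransparency false

universe u

open CategoryTheory CategoryTheory.Limits AlgebraicGeometry Opposite TopologicalSpace

noncomputable section

namespace Groth.Agent.TF7

theorem exists_generic_of_mem {Y : Scheme.{u}} {y : Y} : ∃ η ∈ genericPoints Y, η ⤳ y :=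
  exists_genericPoint_specializes y

variable {k Ω : Type u} [Field k] [Field Ω] {Z Y : Scheme.{u}} {q : Z ⟶ Spec (CommRingCat.of k)}
  {qY : Y ⟶ Spec (CommRingCat.of Ω)} {g : Y ⟶ Z} {φ : k →+* Ω}

theorem flat_of_field_extension (hY : IsPullback g qY q (Spec.map (CommRingCat.ofHom φ))) : Flat g ∧ Surjective g := by
  haveI : Flat (Spec.map (CommRingCat.ofHom φ)) := by
    letI := φ.toAlgebra
    rw [HasRingHomProperty.Spec_iff (P := @Flat)]
    exact RingHom.flat_algebraMap_iff.2 (inferInstance : Module.Flat k Ω)
  haveI : Surjective (Spec.map (CommRingCat.ofHom φ)) :=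
    ⟨fun x => ⟨IsLocalRing.closedPoint Ω, Subsingleton.elim (α := PrimeSpectrum k) _ x⟩⟩
  exact ⟨MorphismProperty.of_isPullback hY.flip inferInstance, MorphismProperty.of_isPullback hY.flip inferInstance⟩

theorem image_generic [Flat g] {η' : Y} (hη : η' ∈ genericPoints Y) : g η' ∈ genericPoints Z := by
  obtain ⟨η, hη0, hs⟩ := exists_genericPoint_specializes (g η')
  obtain ⟨x', hx', hgx⟩ := CycLim28.exists_specializes_of_flat g hs
  rw [← eq_of_specializes_generic hη hx', hgx]
  exact hη0

/-- The preimage of a geometrically integral component is the closure of any generic point over it. -/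
theorem preimage_component (hY : IsPullback g qY q (Spec.map (CommRingCat.ofHom φ))) [Flat g]
    (hgi : ∀ (C : Set Z) (hC : C ∈ irreducibleComponents (Z : Type u)), GeometricallyIntegral
      (VecSt.subschι Z C (isClosed_of_mem_irreducibleComponents C hC) ≫ q))
    {η' : Y} (hη : η' ∈ genericPoints Y) : g ⁻¹' closure {g η'} = closure {η'} := by
  let C : Set Z := closure {g η'}
  have hC : C ∈ irreducibleComponents (Z : Type u) := image_generic hη
  let c := VecSt.subschι Z C (isClosed_of_mem_irreducibleComponents C hC)
  haveI := hgi C hC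
  haveI hP : IsIntegral (pullback g c) := GeometricallyIntegral.geometrically_isIntegral (f := c ≫ q)
    (Spec.map (CommRingCat.ofHom φ)) (pullback.snd g c) (pullback.fst g c ≫ qY)
    ((IsPullback.of_hasPullback g c).flip.paste_vert hY)
  have hirr : IsIrreducible (g ⁻¹' C) := by
    have h : Set.range (pullback.fst g c) = g ⁻¹' C := by
      rw [Scheme.Pullback.range_fst, Scheme.IdealSheafData.range_subschemeι,
        Scheme.IdealSheafData.coe_support_vanishingIdeal]
      rfl
    rw [← h, ← Set.image_univ]
    exact (IrreducibleSpace.isIrreducible_univ _).image _ (pullback.fst g c).continuous.continuousOn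
  refine Set.Subset.antisymm ?_ ?_
  · exact hη.2 hirr (closure_minimal (Set.singleton_subset_iff.2 (subset_closure rfl))
      ((isClosed_closure).preimage g.continuous))
  · exact closure_minimal (Set.singleton_subset_iff.2 (subset_closure rfl)) ((isClosed_closure).preimage g.continuous)

/-- Every generic point lies below a generic point. -/
theorem exists_generic_over [Flat g] [Surjective g] {η : Z} (hη : η ∈ genericPoints Z) :
    ∃ η' ∈ genericPoints Y, g η' = η := by
  obtain ⟨y, rfl⟩ := g.surjective η
  obtain ⟨η', hη', hs⟩ := exists_genericPoint_specializes y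
  exact ⟨η', hη', eq_of_specializes_generic hη (hs.map g.continuous)⟩

/-- A subcurve upstairs is the preimage of the subcurve below its generic points. -/
theorem preimage_subcurve (hY : IsPullback g qY q (Spec.map (CommRingCat.ofHom φ))) [Flat g] [Surjective g]
    (hgi : ∀ (C : Set Z) (hC : C ∈ irreducibleComponents (Z : Type u)), GeometricallyIntegral
      (VecSt.subschι Z C (isClosed_of_mem_irreducibleComponents C hC) ≫ q))
    {W : Set Y} (hW : IsClosed W) (hWs : VecSt.IsSubcurve Y W) :
    ∃ T : Set Z, VecSt.IsSubcurve Z T ∧ g ⁻¹' T = W ∧ (T = Set.univ → W = Set.univ) := by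
  let P : Set Z → Prop := fun C => ∃ η' ∈ genericPoints Y, η' ∈ W ∧ C = closure {g η'}
  let T := ⋃₀ {C | C ∈ irreducibleComponents (Z : Type u) ∧ P C}
  have hpre : g ⁻¹' T = W := by
    refine Set.Subset.antisymm ?_ ?_
    · rintro y ⟨C, ⟨-, η', hη', hη'W, rfl⟩, hy⟩
      have : y ∈ closure ({η'} : Set Y) := (preimage_component hY hgi hη').le hy
      exact closure_minimal (Set.singleton_subset_iff.2 hη'W) hW this
    · intro y hy
      obtain ⟨A, hA, -, rfl⟩ := hWs
      obtain ⟨D, hD, hyD⟩ := hy
      have hgD := (hA hD).1.isGenericPoint_genericPoint (isClosed_of_mem_irreducibleComponents D (hA hD))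
      have hη' : (hA hD).1.genericPoint ∈ genericPoints Y :=
        show closure _ ∈ irreducibleComponents Y by rw [hgD.def]; exact hA hD
      exact ⟨_, ⟨image_generic hη', _, hη', ⟨D, hD, hgD.mem⟩, rfl⟩,
        (preimage_component hY hgi hη').ge (by rw [hgD.def]; exact hyD)⟩
  refine ⟨T, ⟨{C | C ∈ irreducibleComponents (Z : Type u) ∧ P C}, fun C hC => hC.1, ?_, rfl⟩, hpre, fun h => ?_⟩
  · obtain ⟨A, hA, ⟨D, hD⟩, hWeq⟩ := hWs
    subst hWeq
    have hgD := (hA hD).1.isGenericPoint_genericPoint (isClosed_of_mem_irreducibleComponents D (hA hD))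
    have hη' : (hA hD).1.genericPoint ∈ genericPoints Y :=
      show closure _ ∈ irreducibleComponents Y by rw [hgD.def]; exact hA hD
    exact ⟨_, image_generic hη', _, hη', ⟨D, hD, hgD.mem⟩, rfl⟩
  · rw [← hpre, h, Set.preimage_univ]

end Groth.Agent.TF7
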