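import Groth.Agent.TF7.Ascent.Components
import Groth.Agent.Coherent.SupportPullback
import Groth.Agent.CurveRR24.BCField

/-!
# Semistability under extension of the base field
-/

set_option autoImplicit false
set_option linter.style.haveILetI false
set_option backward.isDefEq.respectTransparency.types false
set_option backward.isDefEq.respectTransparency false
set_option maxHeartbeats 1000000

universe u

open CategoryTheory CategoryTheory.Limits AlgebraicGeometry Opposite TopologicalSpace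
open Groth.Agent.OmegaLib Groth.Agent.Coherent Groth.Agent.EulerLib

noncomputable section

namespace Groth.Agent.TF7

variable {k Ω : Type u} [Field k] [Field Ω] {Z Y : Scheme.{u}} [IsReduced Z] [IsReduced Y]
  [Z.Over (Spec (CommRingCat.of k))] [IsProper (Z ↘ Spec (CommRingCat.of k))]
  {qY : Y ⟶ Spec (CommRingCat.of Ω)} {g : Y ⟶ Z} {φ : k →+* Ω}

theorem isTF1_pullback_field (hY : IsPullback g qY (Z ↘ Spec (CommRingCat.of k)) (Spec.map (CommRingCat.ofHom φ)))
    {M : Z.Modules} (hM : TFOne.IsTF1 Z M) : TFOne.IsTF1 Y ((Scheme.Modules.pullback g).obj M) := by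
  haveI := isNoetherian_of_proper (X := Z) k
  obtain ⟨hf, hs⟩ := flat_of_field_extension hY
  haveI := hf
  exact ⟨CycLib28.InterSheaf.isCoh_pullback g hM.1, isTorsionFree_pullback g hM.1 hM.2.1, fun η hη =>
    (rankOne_iff g η (isField_stalk hη) (isField_stalk (image_generic hη))).2 (hM.2.2 _ (image_generic hη))⟩

theorem isTF1_of_pullback (hY : IsPullback g qY (Z ↘ Spec (CommRingCat.of k)) (Spec.map (CommRingCat.ofHom φ)))
    {M : Z.Modules} (hc : Coh.IsCoh M) (h : TFOne.IsTF1 Y ((Scheme.Modules.pullback g).obj M)) :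
    TFOne.IsTF1 Z M := by
  obtain ⟨hf, hs⟩ := flat_of_field_extension hY
  haveI := hf
  haveI := hs
  refine ⟨hc, isTorsionFree_of_pullback g h.2.1, fun η hη => ?_⟩
  obtain ⟨η', hη', rfl⟩ := exists_generic_over (g := g) hη
  exact (rankOne_iff g η' (isField_stalk hη') (isField_stalk hη)).1 (h.2.2 _ hη')

/-- The quotient on a subcurve upstairs is the pullback of the quotient downstairs; `β` is unchanged. -/
theorem rBeta_pullback [IsProper qY]
    (hY : IsPullback g qY (Z ↘ Spec (CommRingCat.of k)) (Spec.map (CommRingCat.ofHom φ)))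
    (hdim : topologicalKrullDim Z ≤ 1) (hdimY : topologicalKrullDim Y ≤ 1)
    {r : ℕ} {E : Z.Modules} (hE : FlatMod.IsFinLocFreeOfRank r E) {M : Z.Modules} (hM : TFOne.IsTF1 Z M)
    {T : Set Z} (hT : IsClosed T) {G : Z.Modules} {π : M ⟶ G} (hG : TFOne.IsQuotOn Z M T G π)
    (hW : IsClosed (g ⁻¹' T)) {G' : Y.Modules} {π' : (Scheme.Modules.pullback g).obj M ⟶ G'}
    (hG' : TFOne.IsQuotOn Y ((Scheme.Modules.pullback g).obj M) (g ⁻¹' T) G' π') :
    TFOne.rBeta Y Ω qY (g ⁻¹' T) hW ((Scheme.Modules.pullback g).obj E) r G' =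
      TFOne.rBeta Z k (Z ↘ Spec (CommRingCat.of k)) T hT E r G := by
  letI : Y.Over (Spec (CommRingCat.of Ω)) := ⟨qY⟩
  haveI : IsProper (Y ↘ Spec (CommRingCat.of Ω)) := ‹IsProper qY›
  haveI := isNoetherian_of_proper (X := Z) k
  haveI : Flat g := (flat_of_field_extension hY).1
  haveI := hG.1
  haveI : Coh.IsQCoh G := hG.2.1.1
  have hq : TFOne.IsQuotOn Y ((Scheme.Modules.pullback g).obj M) (g ⁻¹' T) ((Scheme.Modules.pullback g).obj G)
      ((Scheme.Modules.pullback g).map π) :=
    ⟨inferInstance, CycLib28.InterSheaf.isCoh_pullback g hG.2.1, isTorsionFree_pullback g hG.2.1 hG.2.2.1, by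
      rw [Coherent.support_pullback_qcoh g hG.2.1.1 hG.2.1.2, hG.2.2.2]⟩
  have hMY := isTF1_pullback_field hY hM
  show TFOne.rBeta Y Ω (Y ↘ Spec (CommRingCat.of Ω)) (g ⁻¹' T) hW ((Scheme.Modules.pullback g).obj E) r G' = _
  rw [rBeta_unique Ω (leOne_of_isRkOne hMY.2.2) hW hG' hq,
    rBeta_eq_euler_tensor Ω hdimY (GrassLib.isFinLocFreeOfRank_pullback g hE) (leOne_of_isRkOne hMY.2.2) hW hq,
    rBeta_eq_euler_tensor k hdim hE (leOne_of_isRkOne hM.2.2) hT hG]
  letI := φ.toAlgebra
  haveI : CompactSpace Z := QuasiCompact.compactSpace_of_compactSpace (Z ↘ Spec (CommRingCat.of k))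
  haveI : Coh.IsQCoh (CohB1.tensorMod G E) :=
    (VarietyLib.isCoh_tensor' hG.2.1 (CohBC.isCoh_of_isFinLocFree (VarietyLib.isFinLocFree_of_rank hE))).1
  exact (euler_congr Ω Y (twistPull g G E)).symm.trans (CurveRR24.euler_bc (K := Ω) (g := g) hY (CohB1.tensorMod G E))

variable [IsProper qY]

omit [IsReduced Z] in
theorem isClosed_of_isSubcurve' {T : Set Z} [IsNoetherian Z] (h : VecSt.IsSubcurve Z T) : IsClosed T := by
  obtain ⟨A, hA, -, rfl⟩ := h
  rw [Set.sUnion_eq_biUnion]
  exact ((NoetherianSpace.finite_irreducibleComponents (α := Z)).subset hA).isClosed_biUnion fun C hC =>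
    isClosed_of_mem_irreducibleComponents C (hA hC)

/-- Semistability ascends. -/
theorem isSemistable_pullback
    (hY : IsPullback g qY (Z ↘ Spec (CommRingCat.of k)) (Spec.map (CommRingCat.ofHom φ)))
    (hgi : ∀ (C : Set Z) (hC : C ∈ irreducibleComponents (Z : Type u)), GeometricallyIntegral
      (VecSt.subschι Z C (isClosed_of_mem_irreducibleComponents C hC) ≫ (Z ↘ Spec (CommRingCat.of k))))
    (hdim : topologicalKrullDim Z ≤ 1) (hdimY : topologicalKrullDim Y ≤ 1)
    {r : ℕ} {E : Z.Modules} (hE : FlatMod.IsFinLocFreeOfRank r E) {M : Z.Modules}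
    (hM : TFOne.IsSemistable Z k (Z ↘ Spec (CommRingCat.of k)) M E r) :
    TFOne.IsSemistable Y Ω qY ((Scheme.Modules.pullback g).obj M) ((Scheme.Modules.pullback g).obj E) r := by
  haveI := isNoetherian_of_proper (X := Z) k
  refine ⟨isTF1_pullback_field hY hM.1, fun W hW hWs hne G' π' hG' => ?_⟩
  haveI := (flat_of_field_extension hY).1
  haveI := (flat_of_field_extension hY).2
  obtain ⟨T, hTs, rfl, hTu⟩ := preimage_subcurve hY hgi hW hWs
  have hT : IsClosed T := isClosed_of_isSubcurve' hTs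
  obtain ⟨G, π, hG⟩ := exists_quot_subcurve k hM.1 hT hTs
  rw [rBeta_pullback hY hdim hdimY hE hM.1 hT hG hW hG']
  exact hM.2 T hT hTs (fun h => hne (hTu h)) G π hG

end Groth.Agent.TF7
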