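import Groth.Agent.TF7.Iterate.Congr
import Groth.Agent.TF7.Completion.Contradiction
import Mathlib.RingTheory.Flat.Stability
import Mathlib.RingTheory.Flat.TorsionFree

/-!
# Torsion-freeness and rank one under flat pullback
-/

set_option autoImplicit false
set_option linter.style.haveILetI false
set_option backward.isDefEq.respectTransparency.types false
set_option backward.isDefEq.respectTransparency false

universe u

open CategoryTheory CategoryTheory.Limits AlgebraicGeometry Opposite TopologicalSpace
open Groth.Agent.OmegaLib Groth.Agent.Coherent Groth.Agent.EulerLib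
open scoped TensorProduct

noncomputable section

namespace Groth.Agent.TF7

/-- A flat base change of a submodule of a flat module is torsion-free. -/
theorem isTorsionFree_tensor_of_embed {A B M P : Type u} [CommRing A] [CommRing B] [Algebra A B] [Module.Flat A B]
    [AddCommGroup M] [Module A M] [AddCommGroup P] [Module A P] [Module.Flat A P] (ι : M →ₗ[A] P)
    (hι : Function.Injective ι) : Module.IsTorsionFree B (B ⊗[A] M) :=
  Function.Injective.moduleIsTorsionFree (f := ι.baseChange B)
    (Module.Flat.lTensor_preserves_injective_linearMap ι hι) (map_smul _)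

variable {Y Z : Scheme.{u}} (g : Y ⟶ Z)

/-- Torsion-freeness ascends along flat morphisms. -/
theorem isTorsionFree_pullback [Flat g] [IsNoetherian Z] [IsReduced Z] {M : Z.Modules} (hM : Coh.IsCoh M)
    (ht : TorSh.IsTorsionFree M) : TorSh.IsTorsionFree ((Scheme.Modules.pullback g).obj M) := by
  intro y
  letI := (g.stalkMap y).hom.toAlgebra
  haveI : Module.Flat (Z.presheaf.stalk (g y)) (Y.presheaf.stalk y) := Flat.stalkMap g y
  classical
  let x : Z := g y
  let A := Z.presheaf.stalk x
  let ι := {η : Z // η ∈ genericPoints Z ∧ η ⤳ x}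
  haveI : Finite ι := ((genericPoints_finite (X := Z)).subset fun η (h : η ∈ genericPoints Z ∧ η ⤳ x) => h.1).to_subtype
  haveI := Fintype.ofFinite ι
  letI : ∀ η : ι, Module A (M.presheaf.stalk η.1) := fun η =>
    Module.compHom _ (Z.presheaf.stalkSpecializes η.2.2).hom
  haveI : ∀ η : ι, Module.Flat A (M.presheaf.stalk η.1) := fun η => by
    letI := (Z.presheaf.stalkSpecializes η.2.2).hom.toAlgebra
    haveI := Misc15.isLocalization_stalkSpecializes η.2.2
    haveI : Module.Flat A (Z.presheaf.stalk η.1) := IsLocalization.flat (Z.presheaf.stalk η.1)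
      ((IsUnit.submonoid (Z.presheaf.stalk η.1)).comap (Z.presheaf.stalkSpecializes η.2.2).hom)
    haveI : IsScalarTower A (Z.presheaf.stalk η.1) (M.presheaf.stalk η.1) :=
      IsScalarTower.of_algebraMap_smul fun _ _ => rfl
    letI := (isField_stalk η.2.1).toField
    haveI : Module.Flat (Z.presheaf.stalk η.1) (M.presheaf.stalk η.1) := inferInstance
    exact Module.Flat.trans A (Z.presheaf.stalk η.1) (M.presheaf.stalk η.1)
  haveI : Module.Flat A (Π η : ι, M.presheaf.stalk η.1) :=
    Module.Flat.of_linearEquiv (DirectSum.linearEquivFunOnFintype A ι fun η => M.presheaf.stalk η.1).symm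
  let emb : (DerSch.stalkFunctor Z x).obj M →ₗ[A] (Π η : ι, M.presheaf.stalk η.1) :=
    { toFun := fun m η => spec M η.2.2 m
      map_add' := fun a b => funext fun η => map_add _ _ _
      map_smul' := fun a b => funext fun η => spec_smul M η.2.2 a b }
  have hemb : Function.Injective emb := (injective_iff_map_eq_zero emb).2 fun m hm =>
    eq_zero_of_generic hM.1 ht m fun η hη hs => congrFun hm ⟨η, hη, hs⟩
  haveI h := isTorsionFree_tensor_of_embed (B := Y.presheaf.stalk y) emb hemb
  haveI : Module.IsTorsionFree (Y.presheaf.stalk y)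
      ((DerSch.stalkFunctor Z (g y) ⋙ ModuleCat.extendScalars (g.stalkMap y).hom).obj M) := h
  let L := ((ModStalk.pullbackStalkIso g y).app M).toLinearEquiv
  exact Function.Injective.moduleIsTorsionFree (f := L) L.injective (map_smul L)

/-- Torsion-freeness descends along flat morphisms onto. -/
theorem isTorsionFree_of_pullback [Flat g] [Surjective g] {M : Z.Modules}
    (ht : TorSh.IsTorsionFree ((Scheme.Modules.pullback g).obj M)) : TorSh.IsTorsionFree M := by
  intro x
  obtain ⟨y, rfl⟩ := g.surjective x
  letI := (g.stalkMap y).hom.toAlgebra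
  haveI : Module.Flat (Z.presheaf.stalk (g y)) (Y.presheaf.stalk y) := Flat.stalkMap g y
  refine ⟨fun a ha u v huv => pbs_injective_of_flat g M y ?_⟩
  have hreg : IsRegular ((g.stalkMap y).hom a) := by
    have hs : IsSMulRegular (Y.presheaf.stalk y) a :=
      IsSMulRegular.of_flat (S := Y.presheaf.stalk y) (fun b c h => ha.left h)
    have hl : IsLeftRegular ((g.stalkMap y).hom a) := fun b c hbc => hs (by simp only [Algebra.smul_def]; exact hbc)
    exact ⟨hl, fun b c hbc => hl (by simpa only [mul_comm] using hbc)⟩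
  refine (ht y).isSMulRegular hreg ?_
  show (g.stalkMap y).hom a • pbs g M y u = (g.stalkMap y).hom a • pbs g M y v
  rw [← pbs_smul', ← pbs_smul']
  exact congrArg _ huv

/-- Free of rank one ascends and descends at points where both local rings are fields. -/
theorem rankOne_iff [Flat g] {M : Z.Modules} (y : Y) (hy : IsField (Y.presheaf.stalk y))
    (hx : IsField (Z.presheaf.stalk (g y))) :
    Nonempty (((Scheme.Modules.pullback g).obj M).presheaf.stalk y ≃ₗ[Y.presheaf.stalk y] Y.presheaf.stalk y) ↔
      Nonempty (M.presheaf.stalk (g y) ≃ₗ[Z.presheaf.stalk (g y)] Z.presheaf.stalk (g y)) := by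
  letI := (g.stalkMap y).hom.toAlgebra
  letI := hy.toField
  letI := hx.toField
  let L : (DerSch.stalkFunctor Y y).obj ((Scheme.Modules.pullback g).obj M) ≃ₗ[Y.presheaf.stalk y]
      (Y.presheaf.stalk y ⊗[Z.presheaf.stalk (g y)] (DerSch.stalkFunctor Z (g y)).obj M) :=
    ((ModStalk.pullbackStalkIso g y).app M).toLinearEquiv
  have hbc := Module.finrank_baseChange (R := Y.presheaf.stalk y) (S := Z.presheaf.stalk (g y))
    (M' := (DerSch.stalkFunctor Z (g y)).obj M)
  refine ⟨fun ⟨e⟩ => ?_, fun ⟨e⟩ => ?_⟩
  · have h1 : Module.finrank (Z.presheaf.stalk (g y)) ((DerSch.stalkFunctor Z (g y)).obj M) = 1 := by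
      rw [← hbc, ← L.finrank_eq]
      exact e.finrank_eq.trans (Module.finrank_self _)
    haveI : Module.Finite (Z.presheaf.stalk (g y)) ((DerSch.stalkFunctor Z (g y)).obj M) :=
      Module.finite_of_finrank_eq_succ h1
    exact ⟨LinearEquiv.ofFinrankEq ((DerSch.stalkFunctor Z (g y)).obj M) (Z.presheaf.stalk (g y))
      (h1.trans (Module.finrank_self _).symm)⟩
  · let e' : (DerSch.stalkFunctor Z (g y)).obj M ≃ₗ[Z.presheaf.stalk (g y)] Z.presheaf.stalk (g y) := e
    exact ⟨L ≪≫ₗ e'.baseChange (Z.presheaf.stalk (g y)) (Y.presheaf.stalk y) _ _ ≪≫ₗ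
      TensorProduct.AlgebraTensorModule.rid (Z.presheaf.stalk (g y)) (Y.presheaf.stalk y) (Y.presheaf.stalk y)⟩

end Groth.Agent.TF7
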